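import Groth.Agent.Lib.ProperDesc13.Factor
import Groth.Prelude.Def_AlgGrp
import Groth.Prelude.Def_AlgSt5
import Mathlib.AlgebraicGeometry.Morphisms.Proper

/-!
# Descent of an action along a proper morphism with `f_* O = O`
-/

set_option backward.isDefEq.respectTransparency false
set_option autoImplicit false

universe u

open CategoryTheory CategoryTheory.Limits AlgebraicGeometry MonoidalCategory CartesianMonoidalCategory MonObj

namespace GrothLib.ProperDesc13

variable {k : Type u} [Field k] {G X Y : Over (Spec (CommRingCat.of k))}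

theorem flat_hom (H : Over (Spec (CommRingCat.of k))) : Flat H.hom :=
  haveI : Subsingleton ↥(Spec (CommRingCat.of k)) := inferInstanceAs (Subsingleton (PrimeSpectrum k))
  inferInstance

theorem isPullback_whiskerLeft_left (H : Over (Spec (CommRingCat.of k))) (f : X ⟶ Y) :
    IsPullback (snd H X).left (H ◁ f).left f.left (snd H Y).left := by
  have h₀ : IsPullback (H ◁ f) (snd H X) (snd H Y) f := AlgSt.isPullback_whiskerLeft f
  exact (h₀.map (Over.forget _)).flip

variable (f : X ⟶ Y) [IsProper f.left] (hf : ∀ U : Y.left.Opens, IsIso (f.left.app U))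

theorem universallyClosed_whiskerLeft (H : Over (Spec (CommRingCat.of k))) : UniversallyClosed (H ◁ f).left :=
  MorphismProperty.of_isPullback (P := @UniversallyClosed) (isPullback_whiskerLeft_left H f) inferInstance

include hf in
theorem oconn_whiskerLeft (H : Over (Spec (CommRingCat.of k))) : OConn (H ◁ f).left := by
  haveI := flat_hom H
  haveI : Flat (snd H Y).left := by
    change Flat (Limits.pullback.snd H.hom Y.hom)
    infer_instance
  exact OConn.baseChange (isPullback_whiskerLeft_left H f) hf

include hf in
theorem cancel_whiskerLeft (H : Over (Spec (CommRingCat.of k))) {Z : Over (Spec (CommRingCat.of k))}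
    {u v : H ⊗ Y ⟶ Z} (h : (H ◁ f) ≫ u = (H ◁ f) ≫ v) : u = v := by
  haveI := universallyClosed_whiskerLeft f H
  exact Over.OverMorphism.ext ((oconn_whiskerLeft f hf H).hom_ext (congrArg CommaMorphism.left h))

variable [GrpObj G] (a : AlgGrp.Action G X)

include hf in
theorem eq_of_equivariant (b b' : AlgGrp.Action G Y) (h : (G ◁ f) ≫ b.act = a.act ≫ f)
    (h' : (G ◁ f) ≫ b'.act = a.act ≫ f) : b = b' := by
  cases b; cases b'
  congr
  exact cancel_whiskerLeft f hf G (h.trans h'.symm)

include hf in
/-- The action descends as soon as the composite with `f` is constant on the fibres. -/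
theorem exists_action
    (hc : ∀ p q : ↥(G ⊗ X).left, (G ◁ f).left p = (G ◁ f).left q → (a.act ≫ f).left p = (a.act ≫ f).left q) :
    ∃ b : AlgGrp.Action G Y, (G ◁ f) ≫ b.act = a.act ≫ f := by
  haveI := universallyClosed_whiskerLeft f G
  obtain ⟨k₀, hk₀⟩ := (oconn_whiskerLeft f hf G).exists_desc (a.act ≫ f).left hc
  have hw : k₀ ≫ Y.hom = (G ⊗ Y).hom := (oconn_whiskerLeft f hf G).hom_ext (by
    rw [← Category.assoc, hk₀, Over.w, Over.w])
  let act : G ⊗ Y ⟶ Y := Over.homMk k₀ hw
  have hact : (G ◁ f) ≫ act = a.act ≫ f := Over.OverMorphism.ext hk₀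
  refine ⟨⟨act, ?_, ?_⟩, hact⟩
  · refine cancel_whiskerLeft f hf _ ?_
    rw [← Category.assoc, whisker_exchange, Category.assoc, hact, ← Category.assoc, a.one_act,
      leftUnitor_hom, leftUnitor_hom, whiskerLeft_snd]
  · refine cancel_whiskerLeft f hf (G ⊗ G) ?_
    rw [← Category.assoc, whisker_exchange, Category.assoc, hact, ← Category.assoc, a.mul_act,
      Category.assoc, Category.assoc, ← hact, ← MonoidalCategory.whiskerLeft_comp_assoc, ← hact,
      MonoidalCategory.whiskerLeft_comp_assoc, ← associator_naturality_right_assoc]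

end GrothLib.ProperDesc13
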