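import Groth.Agent.Lib.ProperDesc13.Rigid
import Groth.Agent.Lib.Neutral.Connected
import Groth.Prelude.Def_ActBC
import Mathlib.Topology.Sheaves.SheafCondition.Sites

/-!
# A connected group permutes the fibres of a proper map with `f_* O = O`, over any field
-/

set_option backward.isDefEq.respectTransparency false
set_option autoImplicit false

universe u

open CategoryTheory CategoryTheory.Limits AlgebraicGeometry MonoidalCategory CartesianMonoidalCategory MonObj

namespace GrothLib.ProperDesc13

theorem OConn.isIso_app {X Y : Scheme.{u}} {g : X ⟶ Y} (hg : OConn g) (U : Y.Opens) : IsIso (g.app U) := by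
  let φ : Y.sheaf ⟶ (TopCat.Sheaf.pushforward CommRingCat g.base).obj X.sheaf := ⟨g.c⟩
  let B : {W : Y.Opens // IsIso (g.app W)} → TopologicalSpace.Opens ↥Y := fun W => W.1
  have hB : TopologicalSpace.Opens.IsBasis (Set.range B) := by
    rw [TopologicalSpace.Opens.isBasis_iff_nbhd]
    intro W y hy
    obtain ⟨W', -, hy', hle, hiso⟩ := hg W y hy
    exact ⟨W', ⟨⟨W', hiso⟩, rfl⟩, hy', hle⟩
  haveI : IsIso φ := TopCat.Sheaf.isIso_iff_isIso_basis hB (φ := φ) fun i => i.2
  have : IsIso φ.hom := (sheafToPresheaf _ _).map_isIso φ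
  exact NatIso.isIso_app_of_isIso φ.hom (Opposite.op U)

variable {k : Type u} [Field k] {G X Y : Over (Spec (CommRingCat.of k))} [GrpObj G]
  [LocallyOfFiniteType G.hom] [ConnectedSpace ↥G.left] [LocallyOfFiniteType X.hom] [LocallyOfFiniteType Y.hom]
  (f : X ⟶ Y) [IsProper f.left] (hf : ∀ U : Y.left.Opens, IsIso (f.left.app U)) (a : AlgGrp.Action G X)

include hf in
/-- The action followed by `f` is constant on the fibres of `G × X → G × Y`. -/
theorem const_fibres (p q : ↥(G ⊗ X).left) (hpq : (G ◁ f).left p = (G ◁ f).left q) :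
    (a.act ≫ f).left p = (a.act ≫ f).left q := by
  classical
  obtain ⟨w, rfl, rfl⟩ := Scheme.Pullback.exists_preimage_pullback p q hpq
  let W := Limits.pullback (G ◁ f).left (G ◁ f).left
  let Ω := AlgebraicClosure (W.residueField w)
  let z : Spec (CommRingCat.of Ω) ⟶ W :=
    Spec.map (CommRingCat.ofHom (algebraMap (W.residueField w) Ω)) ≫ W.fromSpecResidueField w
  let e := IsLocalRing.closedPoint Ω
  have hz : z e = w := by
    simp only [z, Scheme.Hom.comp_apply]
    exact Scheme.fromSpecResidueField_apply _ _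
  clear_value z
  let s : Spec (CommRingCat.of Ω) ⟶ Spec (CommRingCat.of k) := z ≫ Limits.pullback.fst _ _ ≫ (G ⊗ X).hom
  let T := (Over.map s).obj (𝟙_ (Over (Spec (CommRingCat.of Ω))))
  have hT : T.hom = z ≫ Limits.pullback.fst _ _ ≫ (G ⊗ X).hom := Category.id_comp _
  let u : T ⟶ G ⊗ X := Over.homMk (z ≫ Limits.pullback.fst _ _) (by rw [hT, Category.assoc])
  let v : T ⟶ G ⊗ X := Over.homMk (z ≫ Limits.pullback.snd _ _) (by
    rw [hT, Category.assoc, ← Over.w (G ◁ f), ← Category.assoc (Limits.pullback.fst _ _),
      Limits.pullback.condition, Category.assoc])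
  have huv : u ≫ (G ◁ f) = v ≫ (G ◁ f) := Over.OverMorphism.ext (by
    show (z ≫ _) ≫ _ = (z ≫ _) ≫ _
    rw [Category.assoc, Category.assoc, Limits.pullback.condition])
  have hg : u ≫ fst G X = v ≫ fst G X := by
    rw [← whiskerLeft_fst G f, ← Category.assoc, huv, Category.assoc]
  have hx : (u ≫ snd G X) ≫ f = (v ≫ snd G X) ≫ f := by
    rw [Category.assoc, Category.assoc, ← whiskerLeft_snd, ← Category.assoc, huv, Category.assoc]
  -- base change to the algebraically closed field
  haveI : Subsingleton ↥(Spec (CommRingCat.of k)) := inferInstanceAs (Subsingleton (PrimeSpectrum k))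
  haveI : Subsingleton ↥(Spec (CommRingCat.of Ω)) := inferInstanceAs (Subsingleton (PrimeSpectrum Ω))
  haveI : Flat s := inferInstance
  let G' := Red.bc s G
  let X' := Red.bc s X
  let Y' := Red.bc s Y
  let f' : X' ⟶ Y' := (Over.pullback s).map f
  have hsq : IsPullback (Limits.pullback.fst X.hom s) f'.left f.left (Limits.pullback.fst Y.hom s) := by
    refine IsPullback.of_bot (v₂₁ := Limits.pullback.snd Y.hom s) (v₂₂ := Y.hom) (h₃₁ := s) ?_ ?_ (IsPullback.of_hasPullback Y.hom s)
    · have hw : f'.left ≫ Limits.pullback.snd Y.hom s = Limits.pullback.snd X.hom s := Over.w f'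
      rw [hw, Over.w f]
      exact IsPullback.of_hasPullback X.hom s
    · exact (Limits.pullback.lift_fst _ _ _).symm
  haveI : IsProper f'.left := MorphismProperty.of_isPullback (P := @IsProper) hsq inferInstance
  haveI : Flat (Limits.pullback.fst Y.hom s) := inferInstance
  have hf' : ∀ U : Y'.left.Opens, IsIso (f'.left.app U) := (OConn.baseChange hsq hf).isIso_app
  haveI := GrothLib.Neutral.geometricallyConnected_of_point G.hom η[G].left (Over.w η[G])
  haveI : LocallyOfFiniteType G'.hom := by change LocallyOfFiniteType (Limits.pullback.snd G.hom s); infer_instance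
  haveI : LocallyOfFiniteType X'.hom := by change LocallyOfFiniteType (Limits.pullback.snd X.hom s); infer_instance
  haveI : LocallyOfFiniteType Y'.hom := by change LocallyOfFiniteType (Limits.pullback.snd Y.hom s); infer_instance
  haveI : GeometricallyConnected G'.hom := by change GeometricallyConnected (Limits.pullback.snd G.hom s); infer_instance
  haveI : ConnectedSpace ↥G'.left := GeometricallyConnected.connectedSpace_of_subsingleton (f := G'.hom)
  let he := fun (Z : Over (Spec (CommRingCat.of k))) =>
    (Over.mapPullbackAdj s).homEquiv (𝟙_ (Over (Spec (CommRingCat.of Ω)))) Z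
  have nat : ∀ {Z Z' : Over (Spec (CommRingCat.of k))} (m : T ⟶ Z) (r : Z ⟶ Z'),
      he Z m ≫ (Over.pullback s).map r = he Z' (m ≫ r) :=
    fun m r => ((Over.mapPullbackAdj s).homEquiv_naturality_right m r).symm
  have key := translate_fibres f' hf' (a.bc s) (he G (u ≫ fst G X)) (he X (u ≫ snd G X)) (he X (v ≫ snd G X))
    ((nat _ f).trans ((congrArg (he Y) hx).trans (nat _ f).symm))
  rw [← Category.assoc, ← Category.assoc, AlgGrp.Action.lift_homEquiv_bc_act,
    AlgGrp.Action.lift_homEquiv_bc_act, nat, nat] at key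
  have := (he Y).injective key
  rw [lift_comp_fst_snd, hg, lift_comp_fst_snd, Category.assoc, Category.assoc] at this
  rw [← hz]
  exact congrArg (fun m : T ⟶ Y => m.left e) this

end GrothLib.ProperDesc13
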