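import Mathlib.AlgebraicGeometry.Morphisms.Flat
import Mathlib.AlgebraicGeometry.Morphisms.UniversallyClosed
import Mathlib.AlgebraicGeometry.Morphisms.QuasiSeparated
import Mathlib.AlgebraicGeometry.Gluing
import Mathlib.AlgebraicGeometry.AffineScheme
import Mathlib.AlgebraicGeometry.Restrict

/-!
# Factorisation through closed maps with `g_* O = O`

`OConn g`: there is a basis of affine opens over which `g` induces isomorphisms on functions.  If moreover
`g` is universally closed, then a morphism constant on the fibres of `g` factors uniquely through `g`; and the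
condition is stable under flat base change when `g` is quasi-compact and quasi-separated.
-/

set_option backward.isDefEq.respectTransparency false
set_option autoImplicit false

universe u

open CategoryTheory CategoryTheory.Limits AlgebraicGeometry

namespace GrothLib.ProperDesc13

variable {X Y Z : Scheme.{u}}

/-- The functions on `Y` and on `X` agree over a basis of affine opens. -/
def OConn (g : X ⟶ Y) : Prop :=
  ∀ (W : Y.Opens), ∀ y ∈ W, ∃ W' : Y.Opens, IsAffineOpen W' ∧ y ∈ W' ∧ W' ≤ W ∧ IsIso (g.app W')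

theorem OConn.of_isIso_app {g : X ⟶ Y} (h : ∀ W : Y.Opens, IsIso (g.app W)) : OConn g := fun W y hy => by
  obtain ⟨W', hW', hy', hle⟩ := exists_isAffineOpen_mem_and_subset hy
  exact ⟨W', hW', hy', hle, h W'⟩

variable {g : X ⟶ Y}

theorem OConn.surjective (hg : OConn g) [UniversallyClosed g] : Function.Surjective g := by
  intro y
  by_contra hy
  let W : Y.Opens := ⟨(Set.range g)ᶜ, g.isClosedMap.isClosed_range.isOpen_compl⟩
  obtain ⟨W', -, hy', hle, hiso⟩ := hg W y hy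
  have he : g ⁻¹ᵁ W' = ⊥ := le_bot_iff.1 fun x hx => (hle hx ⟨x, rfl⟩).elim
  haveI : Subsingleton Γ(X, g ⁻¹ᵁ W') := by
    rw [he]
    exact CommRingCat.subsingleton_of_isTerminal X.sheaf.isTerminalOfEmpty
  haveI : Subsingleton Γ(Y, W') :=
    (ConcreteCategory.bijective_of_isIso (g.app W')).1.subsingleton
  haveI : Subsingleton (Y.presheaf.stalk y) := (Y.presheaf.germ W' y hy').hom.codomain_trivial
  exact false_of_nontrivial_of_subsingleton (Y.presheaf.stalk y)

theorem OConn.restrict (hg : OConn g) (V : Y.Opens) : OConn (g ∣_ V) := by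
  intro W y hy
  obtain ⟨W', hW', hy', hle, hiso⟩ := hg (V.ι ''ᵁ W) (V.ι y) ⟨y, hy, rfl⟩
  refine ⟨V.ι ⁻¹ᵁ W', hW'.preimage_of_isOpenImmersion _ ?_, hy', ?_, ?_⟩
  · exact hle.trans (Set.image_subset_range _ _)
  · intro z hz
    obtain ⟨w, hw, e⟩ := hle hz
    rwa [← V.ι.isOpenEmbedding.injective e]
  · have e : V.ι ''ᵁ (V.ι ⁻¹ᵁ W') = W' := by
      rw [Scheme.Hom.image_preimage_eq_opensRange_inf, inf_eq_right]
      exact hle.trans (Set.image_subset_range _ _)
    haveI : IsIso (g.app (V.ι ''ᵁ (V.ι ⁻¹ᵁ W'))) := by rw [e]; exact hiso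
    rw [morphismRestrict_app]
    infer_instance

theorem OConn.hom_ext (hg : OConn g) [UniversallyClosed g] {k k' : Y ⟶ Z} (h : g ≫ k = g ≫ k') : k = k' := by
  have hbase : ∀ y, k y = k' y := fun y => by
    obtain ⟨x, rfl⟩ := hg.surjective y
    rw [← Scheme.Hom.comp_apply, h, Scheme.Hom.comp_apply]
  refine Scheme.hom_ext_of_forall _ _ fun y => ?_
  obtain ⟨U, hU, hyU, -⟩ := exists_isAffineOpen_mem_and_subset (show k y ∈ (⊤ : Z.Opens) from trivial)
  obtain ⟨W, -, hy, hle, hiso⟩ := hg (k ⁻¹ᵁ U) y hyU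
  have hle' : W ≤ k' ⁻¹ᵁ U := fun z hz => by
    show k' z ∈ U
    rw [← hbase]
    exact hle hz
  refine ⟨W, hy, ?_⟩
  have key : ∀ (f : Y ⟶ Z) (e : W ≤ f ⁻¹ᵁ U), W.toSpecΓ ≫ Spec.map (f.appLE U W e) ≫ hU.fromSpec = W.ι ≫ f :=
    fun f e => by
      rw [Scheme.Opens.toSpecΓ_SpecMap_appLE_assoc, IsAffineOpen.fromSpec, ← hU.isoSpec_hom,
        Iso.hom_inv_id_assoc, Scheme.Hom.resLE_comp_ι]
  rw [← key k hle, ← key k' hle']
  congr 3
  rw [← cancel_mono (g.app W), Scheme.Hom.app_eq_appLE, Scheme.Hom.appLE_comp_appLE,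
    Scheme.Hom.appLE_comp_appLE]
  congr 1

theorem OConn.exists_desc (hg : OConn g) [UniversallyClosed g] (h : X ⟶ Z)
    (hconst : ∀ p q : X, g p = g q → h p = h q) : ∃ k : Y ⟶ Z, g ≫ k = h := by
  choose s hs using hg.surjective
  have hsh : ∀ x, h (s (g x)) = h x := fun x => hconst _ _ (hs _)
  choose U hU hyU hU' using fun y => exists_isAffineOpen_mem_and_subset (show h (s y) ∈ (⊤ : Z.Opens) from trivial)
  let O : Y → Y.Opens := fun y =>
    ⟨(g '' (h ⁻¹' (U y : Set Z))ᶜ)ᶜ, (g.isClosedMap _ ((U y).2.preimage h.continuous).isClosed_compl).isOpen_compl⟩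
  have hO : ∀ y, y ∈ O y := fun y => by
    rintro ⟨x, hx, rfl⟩
    refine hx ?_
    have := hyU (g x)
    rw [hsh] at this
    exact this
  choose W hW hyW hle hiso using fun y => hg (O y) y (hO y)
  have hpre : ∀ y, g ⁻¹ᵁ W y ≤ h ⁻¹ᵁ U y := fun y x hx => by
    by_contra hxU
    exact hle y hx ⟨x, hxU, rfl⟩
  let k : ∀ y, (W y : Scheme.{u}) ⟶ Z := fun y =>
    haveI := hiso y
    (W y).toSpecΓ ≫ Spec.map (h.appLE (U y) _ (hpre y) ≫ inv (g.app (W y))) ≫ (hU y).fromSpec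
  have hk : ∀ y, (g ∣_ W y) ≫ k y = (g ⁻¹ᵁ W y).ι ≫ h := fun y => by
    haveI := hiso y
    simp only [k]
    rw [← Scheme.Opens.toSpecΓ_naturality_assoc, Spec.map_comp, Category.assoc, ← Spec.map_comp_assoc,
      IsIso.inv_hom_id, Spec.map_id, Category.id_comp, Scheme.Opens.toSpecΓ_SpecMap_appLE_assoc,
      IsAffineOpen.fromSpec, ← (hU y).isoSpec_hom, Iso.hom_inv_id_assoc, Scheme.Hom.resLE_comp_ι]
  have htop : TopologicalSpace.IsOpenCover W :=
    TopologicalSpace.IsOpenCover.mk (top_le_iff.1 fun y _ => TopologicalSpace.Opens.mem_iSup.2 ⟨y, hyW y⟩)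
  have hcompat : ∀ i j, pullback.fst (W i).ι (W j).ι ≫ k i = pullback.snd (W i).ι (W j).ι ≫ k j := by
    intro i j
    have h1 : Y.homOfLE (inf_le_left : W i ⊓ W j ≤ W i) ≫ k i = Y.homOfLE (inf_le_right : W i ⊓ W j ≤ W j) ≫ k j := by
      refine (hg.restrict (W i ⊓ W j)).hom_ext ?_
      have aux : ∀ l (hl : W i ⊓ W j ≤ W l), g ∣_ (W i ⊓ W j) ≫ Y.homOfLE hl ≫ k l = (g ⁻¹ᵁ (W i ⊓ W j)).ι ≫ h := by
        intro l hl
        have e : g ∣_ (W i ⊓ W j) ≫ Y.homOfLE hl = X.homOfLE (fun x hx => hl hx) ≫ g ∣_ W l := by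
          rw [← cancel_mono (W l).ι]
          simp only [Category.assoc, Scheme.homOfLE_ι, morphismRestrict_ι, Scheme.homOfLE_ι_assoc]
        rw [reassoc_of% e, hk l, Scheme.homOfLE_ι_assoc]
      rw [aux i inf_le_left, aux j inf_le_right]
    let t : pullback (W i).ι (W j).ι ⟶ (W i ⊓ W j : Y.Opens).toScheme :=
      IsOpenImmersion.lift (W i ⊓ W j : Y.Opens).ι (pullback.fst _ _ ≫ (W i).ι) (by
        rintro _ ⟨z, rfl⟩
        rw [Scheme.Opens.range_ι]
        refine ⟨(pullback.fst (W i).ι (W j).ι z).2, ?_⟩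
        rw [pullback.condition]
        exact (pullback.snd (W i).ι (W j).ι z).2)
    have t1 : t ≫ Y.homOfLE inf_le_left = pullback.fst _ _ := by
      rw [← cancel_mono (W i).ι, Category.assoc, Scheme.homOfLE_ι]
      exact IsOpenImmersion.lift_fac _ _ _
    have t2 : t ≫ Y.homOfLE inf_le_right = pullback.snd _ _ := by
      rw [← cancel_mono (W j).ι, Category.assoc, Scheme.homOfLE_ι, ← pullback.condition]
      exact IsOpenImmersion.lift_fac _ _ _
    rw [← t1, ← t2, Category.assoc, Category.assoc, h1]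
  refine ⟨(Y.openCoverOfIsOpenCover W htop).glueMorphisms k hcompat, ?_⟩
  refine Scheme.hom_ext_of_forall _ _ fun x => ⟨g ⁻¹ᵁ W (g x), hyW (g x), ?_⟩
  rw [← morphismRestrict_ι_assoc]
  have := (Y.openCoverOfIsOpenCover W htop).ι_glueMorphisms k hcompat (g x)
  change (W (g x)).ι ≫ _ = _ at this
  rw [this, hk]

/-- The condition is stable under flat base change. -/
theorem OConn.baseChange {X' Y' : Scheme.{u}} {g' : X' ⟶ Y'} {q' : X' ⟶ X} {q : Y' ⟶ Y}
    (H : IsPullback q' g' g q) [Flat q] [QuasiCompact g] [QuasiSeparated g]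
    (hg : ∀ V : Y.Opens, IsIso (g.app V)) : OConn g' := by
  intro W y hy
  obtain ⟨V, hV, hyV, -⟩ := exists_isAffineOpen_mem_and_subset (show q y ∈ (⊤ : Y.Opens) from trivial)
  obtain ⟨W', hW', hy', hle⟩ := exists_isAffineOpen_mem_and_subset (show y ∈ W ⊓ q ⁻¹ᵁ V from ⟨hy, hyV⟩)
  refine ⟨W', hW', hy', hle.trans inf_le_left, ?_⟩
  have e2 : W' ≤ q ⁻¹ᵁ V := hle.trans inf_le_right
  have hUY : g' ⁻¹ᵁ W' = q' ⁻¹ᵁ (g ⁻¹ᵁ V) ⊓ g' ⁻¹ᵁ W' := by
    rw [eq_comm, inf_eq_right, ← Scheme.Hom.comp_preimage, H.w, Scheme.Hom.comp_preimage]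
    exact fun x hx => e2 hx
  haveI := isIso_pushoutSection_of_isQuasiSeparated_of_flat_right H (UX := g ⁻¹ᵁ V) e2 le_rfl hUY hV hW'
    (QuasiCompact.isCompact_preimage _ V.2 hV.isCompact) (g.isQuasiSeparated_preimage hV.isQuasiSeparated)
  have hpo := (isIso_pushoutSection_iff H e2 le_rfl hUY).1 this
  haveI : IsIso (g.appLE V (g ⁻¹ᵁ V) le_rfl) := by
    rw [Scheme.Hom.appLE_eq_app]
    exact hg V
  rw [Scheme.Hom.app_eq_appLE]
  exact hpo.isIso_inr_of_isIso

end GrothLib.ProperDesc13
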