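import Groth.Agent.Lib.ProperDesc13.Action
import Groth.Agent.Lib.GoodQuot13.Basic
import Groth.Agent.Lib.Stein.Main
import Groth.Agent.Lib.QuotSt.Triv
import Groth.Agent.Lib.Rigidity.SmoothGroup
import Mathlib.AlgebraicGeometry.AlgClosed.Basic
import Mathlib.AlgebraicGeometry.Morphisms.Proper
import Mathlib.FieldTheory.IsAlgClosed.Basic

/-!
# Rigidity: translations respect the fibres of a proper map with `f_* O = O`
-/

set_option backward.isDefEq.respectTransparency false
set_option autoImplicit false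

universe u

open CategoryTheory CategoryTheory.Limits AlgebraicGeometry MonoidalCategory CartesianMonoidalCategory MonObj

namespace GrothLib.ProperDesc13

variable {k : Type u} [Field k] [IsAlgClosed k]

local notation "e₀" => IsLocalRing.closedPoint k

/-- Functions on a connected universally closed scheme over an algebraically closed field take one value. -/
theorem exists_value {F : Scheme.{u}} (p : F ⟶ Spec (CommRingCat.of k)) [UniversallyClosed p]
    [PreconnectedSpace F] [Nonempty F] (b : Γ(F, ⊤)) :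
    ∃ c : k, ∀ z : F, F.evaluation ⊤ z trivial b =
      F.evaluation ⊤ z trivial (((Scheme.ΓSpecIso (CommRingCat.of k)).inv ≫ p.appTop) c) := by
  classical
  let φ := ((Scheme.ΓSpecIso (CommRingCat.of k)).inv ≫ p.appTop).hom
  have hφ : φ.IsIntegral := RingHom.IsIntegral.trans _ _
    (RingHom.isIntegral_of_surjective _ (ConcreteCategory.bijective_of_isIso (Scheme.ΓSpecIso _).inv).2)
    (isIntegral_appTop_of_universallyClosed p)
  obtain ⟨P, hP, hroot⟩ := hφ b
  let V : k → Set F := fun c => {z | F.evaluation ⊤ z trivial b = F.evaluation ⊤ z trivial (φ c)}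
  have hV : ∀ c, IsClosed (V c) := fun c => by
    have : V c = (F.basicOpen (b - φ c) : Set F)ᶜ := by
      ext z
      simp only [V, Set.mem_setOf_eq, Set.mem_compl_iff, SetLike.mem_coe,
        ← F.evaluation_ne_zero_iff_mem_basicOpen (U := ⊤) z trivial, ne_eq, map_sub, not_not, sub_eq_zero]
    rw [this]
    exact (F.basicOpen (b - φ c)).2.isClosed_compl
  have hdisj : ∀ c c' z, z ∈ V c → z ∈ V c' → c = c' := fun c c' z h h' =>
    ((F.evaluation ⊤ z trivial).hom.comp φ).injective (h.symm.trans h')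
  have hcov : ∀ z, ∃ c ∈ P.roots.toFinset, z ∈ V c := by
    intro z
    let ψ : k →+* F.residueField z := (F.evaluation ⊤ z trivial).hom.comp φ
    letI : Algebra k (F.residueField z) := ψ.toAlgebra
    let x := F.evaluation ⊤ z trivial b
    have hx : Polynomial.aeval x P = 0 := by
      rw [Polynomial.aeval_def]
      have := congrArg (F.evaluation ⊤ z trivial).hom hroot
      rw [Polynomial.hom_eval₂, map_zero] at this
      exact this
    have hint : IsIntegral k x := ⟨P, hP, hx⟩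
    obtain ⟨c, hc⟩ := minpoly.degree_eq_one_iff.1
      (IsAlgClosed.degree_eq_one_of_irreducible k (minpoly.irreducible hint))
    refine ⟨c, Multiset.mem_toFinset.2 ((Polynomial.mem_roots hP.ne_zero).2 ?_), hc.symm⟩
    rw [← hc, Polynomial.aeval_algebraMap_apply_eq_algebraMap_eval] at hx
    exact (algebraMap k (F.residueField z)).injective (hx.trans (map_zero _).symm)
  obtain ⟨z₀⟩ := (inferInstance : Nonempty F)
  obtain ⟨c₀, hc₀, hz₀⟩ := hcov z₀
  have hopen : IsOpen (V c₀) := by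
    have e : V c₀ = (⋃ c ∈ P.roots.toFinset.erase c₀, V c)ᶜ := by
      ext z
      simp only [Set.mem_compl_iff, Set.mem_iUnion, exists_prop, Finset.mem_erase, not_exists, not_and]
      refine ⟨fun h c hc hc' => hc.1 (hdisj _ _ _ hc' h), fun h => ?_⟩
      obtain ⟨c, hc, hzc⟩ := hcov z
      by_cases e : c = c₀
      · exact e ▸ hzc
      · exact absurd hzc (h c ⟨e, hc⟩)
    rw [e]
    exact (isClosed_biUnion_finset fun c _ => hV c).isOpen_compl
  exact ⟨c₀, fun z => (IsClopen.eq_univ ⟨hV c₀, hopen⟩ ⟨z₀, hz₀⟩).ge (Set.mem_univ z)⟩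

/-- A map from a connected universally closed scheme into an affine scheme is constant. -/
theorem apply_eq_of_affine {F W : Scheme.{u}} [IsAffine W] (p : F ⟶ Spec (CommRingCat.of k))
    [UniversallyClosed p] [PreconnectedSpace F] (m : F ⟶ W) (z₁ z₂ : F) : m z₁ = m z₂ := by
  haveI : Nonempty F := ⟨z₁⟩
  have key : ∀ a : Γ(W, ⊤), m z₁ ∈ W.basicOpen a ↔ m z₂ ∈ W.basicOpen a := by
    intro a
    obtain ⟨c, hc⟩ := exists_value p (m.appTop a)
    have h : ∀ z, m z ∈ W.basicOpen a ↔ c ≠ 0 := fun z => by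
      rw [← Scheme.Hom.mem_preimage, Scheme.preimage_basicOpen,
        ← F.evaluation_ne_zero_iff_mem_basicOpen (U := ⊤) z trivial]
      change (F.evaluation ⊤ z trivial) (m.appTop a) ≠ 0 ↔ _
      rw [hc z]
      exact map_ne_zero_iff _
        ((F.evaluation ⊤ z trivial).hom.comp ((Scheme.ΓSpecIso (CommRingCat.of k)).inv ≫ p.appTop).hom).injective
    rw [h, h]
  apply (W.isoSpec.hom.homeomorph).injective
  apply PrimeSpectrum.ext
  ext a
  have e := key a
  rw [← W.toSpecΓ_preimage_basicOpen, Scheme.Hom.mem_preimage, Scheme.Hom.mem_preimage, ← W.isoSpec_hom] at e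
  exact not_iff_not.1 e

variable {G X Y : Over (Spec (CommRingCat.of k))}

/-- The closed point of the spectrum of the base under a rational point. -/
noncomputable abbrev pnt {Z : Over (Spec (CommRingCat.of k))} (z : 𝟙_ (Over (Spec (CommRingCat.of k))) ⟶ Z) : Z.left :=
  z.left e₀

theorem isClosed_pnt {Z : Over (Spec (CommRingCat.of k))} [LocallyOfFiniteType Z.hom]
    (z : 𝟙_ (Over (Spec (CommRingCat.of k))) ⟶ Z) : IsClosed {pnt z} :=
  (pointEquivClosedPoint Z.hom ⟨z.left, Over.w z⟩).2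

theorem exists_pnt {Z : Over (Spec (CommRingCat.of k))} [LocallyOfFiniteType Z.hom] {s : Set Z.left}
    (hs : IsLocallyClosed s) (hne : s.Nonempty) : ∃ z : 𝟙_ (Over (Spec (CommRingCat.of k))) ⟶ Z, pnt z ∈ s := by
  haveI : JacobsonSpace Z.left := LocallyOfFiniteType.jacobsonSpace Z.hom
  obtain ⟨x, hx, hcl⟩ := nonempty_inter_closedPoints hne hs
  exact ⟨Over.homMk (pointOfClosedPoint Z.hom x hcl) (pointOfClosedPoint_comp _ _ _), by
    show pointOfClosedPoint Z.hom x hcl e₀ ∈ s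
    rw [pointOfClosedPoint_apply]
    exact hx⟩

variable [GrpObj G] [LocallyOfFiniteType G.hom] [ConnectedSpace ↥G.left] [LocallyOfFiniteType X.hom]
  [LocallyOfFiniteType Y.hom] (f : X ⟶ Y) [IsProper f.left] (hf : ∀ U : Y.left.Opens, IsIso (f.left.app U))
  (a : AlgGrp.Action G X)

include hf in
/-- Near the identity, translation maps a fibre into a fibre. -/
theorem exists_open_good (y : 𝟙_ (Over (Spec (CommRingCat.of k))) ⟶ Y) :
    ∃ O : (G ⊗ Y).left.Opens, pnt (lift 1 y) ∈ O ∧ ∀ (g : 𝟙_ (Over (Spec (CommRingCat.of k))) ⟶ G)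
      (y' : 𝟙_ (Over (Spec (CommRingCat.of k))) ⟶ Y),
      pnt (lift g y') ∈ O → ∀ x₁ x₂ : 𝟙_ (Over (Spec (CommRingCat.of k))) ⟶ X, x₁ ≫ f = y' → x₂ ≫ f = y' →
        lift g x₁ ≫ a.act ≫ f = lift g x₂ ≫ a.act ≫ f := by
  haveI := LocallyOfFiniteType.isLocallyNoetherian Y.hom
  haveI := universallyClosed_whiskerLeft f G
  haveI : LocallyOfFiniteType (G ⊗ X).hom := by
    change LocallyOfFiniteType (Limits.pullback.fst G.hom X.hom ≫ G.hom)
    infer_instance
  obtain ⟨U, hU, hyU, -⟩ := exists_isAffineOpen_mem_and_subset (show pnt y ∈ (⊤ : Y.left.Opens) from trivial)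
  let h := a.act ≫ f
  let B : Set (G ⊗ X).left := (h.left ⁻¹ᵁ U : Set (G ⊗ X).left)ᶜ
  have hB : IsClosed B := (h.left ⁻¹ᵁ U).2.isClosed_compl
  refine ⟨⟨((G ◁ f).left '' B)ᶜ, ((G ◁ f).left.isClosedMap _ hB).isOpen_compl⟩, ?_, ?_⟩
  · rintro ⟨p, hp, hpe⟩
    haveI : LocallyOfFiniteType (G ⊗ Y).hom := by
      change LocallyOfFiniteType (Limits.pullback.fst G.hom Y.hom ≫ G.hom)
      infer_instance
    obtain ⟨z, hzB, hz⟩ := exists_pnt (Z := G ⊗ X)
      (hB.inter ((isClosed_pnt (lift 1 y)).preimage (G ◁ f).left.continuous)).isLocallyClosed ⟨p, hp, hpe⟩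
    have hze : z ≫ (G ◁ f) = lift 1 y := GrothLib.GoodQuot13.rationalPoint_ext _ _ hz
    have h1 : z ≫ fst G X = 1 := by
      rw [← whiskerLeft_fst G f, ← Category.assoc, hze, lift_fst]
    have h2 : (z ≫ snd G X) ≫ f = y := by
      rw [Category.assoc, ← whiskerLeft_snd, ← Category.assoc, hze, lift_snd]
    refine hzB ?_
    show h.left (z.left e₀) ∈ U
    rw [← Scheme.Hom.comp_apply, ← Over.comp_left]
    have : z ≫ h = y := by
      rw [← lift_comp_fst_snd z, h1]
      show lift (1 : 𝟙_ _ ⟶ G) (z ≫ snd G X) ≫ a.act ≫ f = y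
      rw [reassoc_of% (GrothLib.QuotSt.lift_one_act a (z ≫ snd G X))]
      simpa using h2
    rw [this]
    exact hyU
  · intro g y' hg x₁ x₂ hx₁ hx₂
    let F := f.left.fiber (pnt y')
    haveI : PreconnectedSpace ↥F :=
      GrothLib.Stein.preconnectedSpace_fiber f.left (pnt y') fun V _ _ =>
        haveI := hf V
        (ConcreteCategory.bijective_of_isIso _).2
    have hyc := isClosed_pnt y'
    haveI : IsClosedImmersion (Y.left.fromSpecResidueField (pnt y')) :=
      isClosed_singleton_iff_isClosedImmersion.1 hyc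
    haveI : IsFinite (Y.left.fromSpecResidueField (pnt y') ≫ Y.hom) := by
      rw [isFinite_iff_locallyOfFiniteType_of_jacobsonSpace]
      infer_instance
    let pF : F ⟶ Spec (CommRingCat.of k) :=
      Limits.pullback.snd f.left (Y.left.fromSpecResidueField (pnt y')) ≫ Y.left.fromSpecResidueField (pnt y') ≫ Y.hom
    haveI : UniversallyClosed pF := inferInstance
    let j : X ⟶ G ⊗ X := lift (toUnit X ≫ g) (𝟙 X)
    have hrange : Set.range (f.left.fiberι (pnt y') ≫ (j ≫ h).left) ⊆ Set.range U.ι := by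
      rintro _ ⟨w, rfl⟩
      rw [Scheme.Opens.range_ι]
      by_contra hw
      refine hg ⟨j.left (f.left.fiberι (pnt y') w), hw, ?_⟩
      rw [← Scheme.Hom.comp_apply, ← Over.comp_left,
        show j ≫ (G ◁ f) = f ≫ lift (toUnit Y ≫ g) (𝟙 Y) by simp [j], Over.comp_left, Scheme.Hom.comp_apply]
      have hw' : f.left (f.left.fiberι (pnt y') w) = pnt y' := (f.left.range_fiberι (pnt y')).le ⟨w, rfl⟩
      rw [hw']
      show (y' ≫ lift (toUnit Y ≫ g) (𝟙 Y)).left e₀ = _
      rw [comp_lift, Category.comp_id, ← Category.assoc, toUnit_unique (y' ≫ toUnit Y) (𝟙 _), Category.id_comp]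
    haveI : IsAffine U := hU
    have hval : ∀ x : 𝟙_ (Over (Spec (CommRingCat.of k))) ⟶ X, x ≫ f = y' →
        ∃ w : F, pnt (lift g x ≫ h) = U.ι (IsOpenImmersion.lift U.ι _ hrange w) := by
      intro x hx
      obtain ⟨w, hw⟩ := (f.left.range_fiberι (pnt y')).ge (show f.left (pnt x) = pnt y' by
        rw [← Scheme.Hom.comp_apply, ← Over.comp_left, hx])
      refine ⟨w, ?_⟩
      have hxj : x ≫ j = lift g x := by
        rw [comp_lift, Category.comp_id, ← Category.assoc, toUnit_unique (x ≫ toUnit X) (𝟙 _), Category.id_comp]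
      rw [← Scheme.Hom.comp_apply, IsOpenImmersion.lift_fac, Scheme.Hom.comp_apply, hw, ← hxj, Category.assoc]
      exact Scheme.Hom.comp_apply _ _ _
    obtain ⟨w₁, hw₁⟩ := hval x₁ hx₁
    obtain ⟨w₂, hw₂⟩ := hval x₂ hx₂
    refine GrothLib.GoodQuot13.rationalPoint_ext _ _ ?_
    show pnt (lift g x₁ ≫ h) = pnt (lift g x₂ ≫ h)
    rw [hw₁, hw₂, apply_eq_of_affine pF _ w₁ w₂]

include hf in
/-- Translations by rational points respect the fibres. -/
theorem translate_fibres (g : 𝟙_ (Over (Spec (CommRingCat.of k))) ⟶ G) (x₁ x₂ : 𝟙_ (Over (Spec (CommRingCat.of k))) ⟶ X)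
    (hx : x₁ ≫ f = x₂ ≫ f) :
    lift g x₁ ≫ a.act ≫ f = lift g x₂ ≫ a.act ≫ f := by
  haveI := GrothLib.Rigidity.irreducibleSpace_of_connected G
  let y := x₁ ≫ f
  let x₁' := lift g x₁ ≫ a.act
  let x₂' := lift g x₂ ≫ a.act
  obtain ⟨O, hO, hgood⟩ := exists_open_good f hf a y
  obtain ⟨O₁, hO₁, hgood₁⟩ := exists_open_good f hf a (x₁' ≫ f)
  let φ : G ⟶ G ⊗ Y := lift (𝟙 G * (toUnit G ≫ g)) (toUnit G ≫ y)
  let ψ : G ⟶ G ⊗ Y := lift (𝟙 G)⁻¹ (lift (𝟙 G) (toUnit G ≫ x₁') ≫ a.act ≫ f)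
  have ev : ∀ v : 𝟙_ (Over (Spec (CommRingCat.of k))) ⟶ G, v ≫ φ = lift (v * g) y ∧
      v ≫ ψ = lift v⁻¹ (lift v x₁' ≫ a.act ≫ f) := fun v => by
    have hu : ∀ {Z : Over (Spec (CommRingCat.of k))} (m : 𝟙_ (Over (Spec (CommRingCat.of k))) ⟶ Z),
        v ≫ toUnit G ≫ m = m := fun m => by
      rw [← Category.assoc, toUnit_unique (v ≫ toUnit G) (𝟙 _), Category.id_comp]
    constructor
    · rw [comp_lift, MonObj.comp_mul, Category.comp_id, hu, hu]
    · rw [comp_lift, GrpObj.comp_inv, Category.comp_id, ← Category.assoc v (lift _ _), comp_lift,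
        Category.comp_id, hu]
  have ne1 : ((φ.left ⁻¹ᵁ O : G.left.Opens) : Set G.left).Nonempty := ⟨pnt g⁻¹, by
    show φ.left ((g⁻¹).left e₀) ∈ O
    rw [← Scheme.Hom.comp_apply, ← Over.comp_left, (ev g⁻¹).1, inv_mul_cancel]
    exact hO⟩
  have ne2 : ((ψ.left ⁻¹ᵁ O₁ : G.left.Opens) : Set G.left).Nonempty := ⟨pnt (1 : 𝟙_ _ ⟶ G), by
    show ψ.left ((1 : 𝟙_ _ ⟶ G).left e₀) ∈ O₁
    rw [← Scheme.Hom.comp_apply, ← Over.comp_left, (ev 1).2, inv_one]
    rw [reassoc_of% (GrothLib.QuotSt.lift_one_act a x₁')]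
    exact hO₁⟩
  obtain ⟨v, hv1, hv2⟩ := exists_pnt (Z := G)
    (((φ.left ⁻¹ᵁ O).2.inter (ψ.left ⁻¹ᵁ O₁).2).isLocallyClosed)
    (PreirreducibleSpace.isPreirreducible_univ _ _ (φ.left ⁻¹ᵁ O).2 (ψ.left ⁻¹ᵁ O₁).2
      (by simpa using ne1) (by simpa using ne2) |>.mono (fun z hz => hz.2))
  have hv1' : pnt (lift (v * g) y) ∈ O := by rw [← (ev v).1]; exact hv1
  have h12 := hgood (v * g) y hv1' x₁ x₂ rfl hx.symm
  rw [← reassoc_of% (GrothLib.QuotSt.lift_mul_act a v g x₁), ← reassoc_of% (GrothLib.QuotSt.lift_mul_act a v g x₂)] at h12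
  have hv2' : pnt (lift v⁻¹ (lift v x₁' ≫ a.act ≫ f)) ∈ O₁ := by rw [← (ev v).2]; exact hv2
  have := hgood₁ v⁻¹ (lift v x₁' ≫ a.act ≫ f) hv2' (lift v x₁' ≫ a.act) (lift v x₂' ≫ a.act)
    (Category.assoc _ _ _) ((Category.assoc _ _ _).trans h12.symm)
  rwa [reassoc_of% (GrothLib.QuotSt.lift_mul_act a v⁻¹ v x₁'), reassoc_of% (GrothLib.QuotSt.lift_mul_act a v⁻¹ v x₂'),
    inv_mul_cancel, reassoc_of% (GrothLib.QuotSt.lift_one_act a x₁'), reassoc_of% (GrothLib.QuotSt.lift_one_act a x₂'),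
    Category.assoc, Category.assoc] at this

end GrothLib.ProperDesc13
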